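import Groth.Agent.GrTail.Core

/-! A tail-finite graded module over a ring generated in degree one is eventually generated in one degree. -/

set_option autoImplicit false

open DirectSum

noncomputable section

namespace Groth.Agent.GrTail

universe u v

variable {A : Type u} {σ : Type*} [CommRing A] [SetLike σ A] [AddSubgroupClass σ A] (𝒜 : ℕ → σ) [GradedRing 𝒜]
variable {M : Type v} {τ : Type*} [AddCommGroup M] [Module A M] [SetLike τ M] [AddSubgroupClass τ M]
  (ℳ : ℕ → τ) [DirectSum.Decomposition ℳ] [SetLike.GradedSMul 𝒜 ℳ]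

theorem exists_gen_one [IsNoetherianRing A]
    (hgen : (HomogeneousIdeal.irrelevant 𝒜).toIdeal = Ideal.span (𝒜 1 : Set A))
    (hW : ∃ k : ℕ, (tailSpan ℳ k : Submodule A M).FG) :
    ∃ k₁ : ℕ, ∀ k, k₁ ≤ k → ∀ e : ℕ, ∀ {m : M}, m ∈ ℳ (k + e) →
      m ∈ AddSubgroup.closure {q : M | ∃ a ∈ 𝒜 e, ∃ z ∈ ℳ k, q = a • z} := by
  obtain ⟨k₀, hW⟩ := hW
  obtain ⟨s, hs, hspan⟩ := (Submodule.fg_span_iff_fg_span_finset_subset _).1 hW
  have hs' : ∀ g : s, ∃ i, k₀ ≤ i ∧ (g : M) ∈ ℳ i := fun g => by
    have h := hs g.2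
    simp only [Set.mem_iUnion] at h
    obtain ⟨i, hi, hgi⟩ := h
    exact ⟨i, hi, hgi⟩
  choose d hd0 hd using hs'
  refine ⟨max k₀ (Finset.univ.sup d), fun k hk e => ?_⟩
  induction e with
  | zero =>
    intro m hm
    exact AddSubgroup.subset_closure ⟨1, SetLike.one_mem_graded 𝒜, m, by simpa using hm, (one_smul _ _).symm⟩
  | succ e ih =>
    intro m hm
    -- one step
    have hstep : m ∈ AddSubgroup.closure {q : M | ∃ a ∈ 𝒜 1, ∃ z ∈ ℳ (k + e), q = a • z} := by
      have hmspan : m ∈ Submodule.span A (Set.range fun g : s => (g : M)) := by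
        rw [show Set.range (fun g : s => (g : M)) = (s : Set M) from Subtype.range_coe, ← hspan]
        exact mem_tailSpan ℳ (by omega) hm
      obtain ⟨c, hc⟩ := (Submodule.mem_span_range_iff_exists_fun A).1 hmspan
      have hcomp : (decompose ℳ (∑ g : s, c g • (g : M)) (k + (e + 1)) : M) =
          ∑ g : s, (decompose 𝒜 (c g) (k + (e + 1) - d g) : A) • (g : M) := by
        rw [decompose_sum, DFinsupp.finsetSum_apply, AddSubmonoidClass.coe_finsetSum]
        refine Finset.sum_congr rfl fun g _ => ?_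
        have := Finset.le_sup (f := d) (Finset.mem_univ g)
        rw [← decompose_smul_right 𝒜 ℳ (c g) (hd g) (k + (e + 1) - d g), Nat.sub_add_cancel (by omega)]
      rw [hc, decompose_of_mem_same ℳ hm] at hcomp
      rw [hcomp]
      refine AddSubgroup.sum_mem _ fun g _ => ?_
      have hle := Finset.le_sup (f := d) (Finset.mem_univ g)
      set r : A := (decompose 𝒜 (c g) (k + (e + 1) - d g) : A) with hrdef
      have hr : r ∈ 𝒜 (k + (e + 1) - d g) := SetLike.coe_mem _
      have hr' : r ∈ Ideal.span (Set.range fun a : 𝒜 1 => (a : A)) := by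
        rw [show Set.range (fun a : 𝒜 1 => (a : A)) = (𝒜 1 : Set A) from Subtype.range_coe, ← hgen]
        exact HomogeneousIdeal.mem_irrelevant_of_mem 𝒜 (by omega) hr
      obtain ⟨l, hl⟩ := Finsupp.mem_span_range_iff_exists_finsupp.1 hr'
      have hcomp' : (decompose 𝒜 (∑ a ∈ l.support, l a • (a : A)) (k + (e + 1) - d g) : A) =
          ∑ a ∈ l.support, (decompose 𝒜 (l a) (k + e - d g) : A) * a := by
        rw [decompose_sum, DFinsupp.finsetSum_apply, AddSubmonoidClass.coe_finsetSum]
        refine Finset.sum_congr rfl fun a _ => ?_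
        rw [smul_eq_mul, coe_decompose_mul_of_right_mem_of_le 𝒜 a.2 (by omega),
          show k + (e + 1) - d g - 1 = k + e - d g by omega]
      rw [Finsupp.sum] at hl
      rw [hl, decompose_of_mem_same 𝒜 hr] at hcomp'
      rw [hcomp', Finset.sum_smul]
      refine AddSubgroup.sum_mem _ fun a _ => AddSubgroup.subset_closure
        ⟨a, a.2, (decompose 𝒜 (l a) (k + e - d g) : A) • (g : M), ?_, by rw [smul_smul, mul_comm]⟩
      have := smul_mem_graded 𝒜 ℳ (SetLike.coe_mem (decompose 𝒜 (l a) (k + e - d g))) (hd g)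
      rwa [Nat.sub_add_cancel (by omega)] at this
    clear hm
    induction hstep using AddSubgroup.closure_induction with
    | mem q hq =>
      obtain ⟨a, ha, z, hz, rfl⟩ := hq
      have hz' := ih hz
      clear hz
      induction hz' using AddSubgroup.closure_induction with
      | mem q hq =>
        obtain ⟨b, hb, y, hy, rfl⟩ := hq
        refine AddSubgroup.subset_closure ⟨b * a, SetLike.mul_mem_graded hb ha, y, hy, ?_⟩
        rw [smul_smul, mul_comm]
      | zero => rw [smul_zero]; exact zero_mem _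
      | add p q _ _ hp hq => rw [smul_add]; exact add_mem hp hq
      | neg p _ hp => rw [smul_neg]; exact neg_mem hp
    | zero => exact zero_mem _
    | add p q _ _ hp hq => exact add_mem hp hq
    | neg p _ hp => exact neg_mem hp

end Groth.Agent.GrTail
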