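import Groth.Agent.GrTail.Core

/-! Homogeneous components are separated by the localisations at the points of `Proj`. -/

set_option autoImplicit false

open DirectSum

noncomputable section

namespace Groth.Agent.GrTail

universe u v

variable {A : Type u} {σ : Type*} [CommRing A] [SetLike σ A] [AddSubgroupClass σ A] (𝒜 : ℕ → σ) [GradedRing 𝒜]
variable {M : Type v} {τ : Type*} [AddCommGroup M] [Module A M] [SetLike τ M] [AddSubgroupClass τ M]
  (ℳ : ℕ → τ) [DirectSum.Decomposition ℳ] [SetLike.GradedSMul 𝒜 ℳ]

include 𝒜 in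
lemma decompose_smul_lt (u : A) {z : M} {k : ℕ} (hz : z ∈ ℳ k) {m : ℕ} (h : m < k) :
    (decompose ℳ (u • z) m : M) = 0 := by
  classical
  induction u using DirectSum.Decomposition.inductionOn 𝒜 with
  | zero => simp
  | homogeneous a =>
    rename_i i
    exact decompose_of_mem_ne ℳ (smul_mem_graded 𝒜 ℳ a.2 hz) (by omega)
  | add a b ha hb =>
    simp only [add_smul, decompose_add, DirectSum.add_apply, AddMemClass.coe_add] at *
    rw [ha, hb, add_zero]

/-- If `z` dies in the localisation at a homogeneous prime, so does each of its components. -/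
lemma exists_smul_decompose_eq_zero {x : ProjectiveSpectrum 𝒜} {u : A} (hu : u ∉ x.asHomogeneousIdeal)
    {z : M} (h : u • z = 0) (k : ℕ) :
    ∃ c : A, c ∉ x.asHomogeneousIdeal ∧ c • (decompose ℳ z k : M) = 0 := by
  classical
  set P : Ideal A := x.asHomogeneousIdeal.toIdeal with hPdef
  have hP : P.IsPrime := x.isPrime
  set S : Finset ℕ := (decompose ℳ z).support with hS
  have hex := exists_decompose_not_mem 𝒜 hu
  set d := Nat.find hex with hd
  set w : A := (decompose 𝒜 u d : A) with hwdef
  have hw : w ∉ P := Nat.find_spec hex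
  have hlow : ∀ j < d, (decompose 𝒜 u j : A) ∈ P := fun j hj => not_not.1 (Nat.find_min hex hj)
  set N : Submodule A M := Submodule.span A (Set.range fun i : S => (decompose ℳ z i : M)) with hN
  have hmem : ∀ k, (decompose ℳ z k : M) ∈ N := fun k => by
    by_cases hk : k ∈ S
    · exact Submodule.subset_span ⟨⟨k, hk⟩, rfl⟩
    · rw [hS, DFinsupp.notMem_support_iff] at hk
      rw [hk, ZeroMemClass.coe_zero]
      exact zero_mem _
  have key : ∀ k, w ^ (k + 1) • (decompose ℳ z k : M) ∈ P • N := by
    intro k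
    induction k using Nat.strong_induction_on with
    | _ k ih =>
      by_cases hk : k ∈ S
      swap
      · rw [hS, DFinsupp.notMem_support_iff] at hk
        simp [hk]
      let g : ℕ → M := fun j => (decompose ℳ (u • (decompose ℳ z j : M)) (d + k) : M)
      have hsum : ∑ j ∈ S, g j = 0 := by
        have h1 : (decompose ℳ (∑ j ∈ S, u • (decompose ℳ z j : M)) (d + k) : M) = 0 := by
          rw [← Finset.smul_sum, hS, sum_support_decompose, h, decompose_zero]
          rfl
        rwa [decompose_sum, DFinsupp.finsetSum_apply, AddSubmonoidClass.coe_finsetSum] at h1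
      have hgk : g k = w • (decompose ℳ z k : M) := decompose_smul_right 𝒜 ℳ u (SetLike.coe_mem _) d
      have hrest : ∀ j ∈ S.erase k, w ^ k • g j ∈ P • N := by
        intro j hj
        have hjk : j ≠ k := Finset.ne_of_mem_erase hj
        by_cases hle : j ≤ d + k
        · have e : g j = (decompose 𝒜 u (d + k - j) : A) • (decompose ℳ z j : M) := by
            have := decompose_smul_right 𝒜 ℳ u (SetLike.coe_mem (decompose ℳ z j)) (d + k - j)
            rwa [Nat.sub_add_cancel hle] at this
          rw [e]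
          rcases lt_or_gt_of_ne hjk with hlt | hgt
          · obtain ⟨r, hr⟩ := Nat.exists_eq_add_of_le (Nat.succ_le_of_lt hlt)
            rw [smul_comm, hr, Nat.succ_eq_add_one, Nat.add_comm (j + 1) r, pow_add, mul_smul]
            exact Submodule.smul_mem _ _ (Submodule.smul_mem _ _ (ih j hlt))
          · refine Submodule.smul_mem _ _ (Submodule.smul_mem_smul (hlow _ (by omega)) (hmem j))
        · have : g j = 0 := decompose_smul_lt 𝒜 ℳ u (SetLike.coe_mem _) (by omega)
          rw [this, smul_zero]
          exact zero_mem _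
      rw [← Finset.add_sum_erase S g hk, hgk] at hsum
      have h2 : w ^ k • (w • (decompose ℳ z k : M)) = -∑ j ∈ S.erase k, w ^ k • g j := by
        rw [eq_neg_iff_add_eq_zero, ← Finset.smul_sum, ← smul_add, hsum, smul_zero]
      rw [pow_succ, mul_smul, h2]
      exact neg_mem (Submodule.sum_mem _ hrest)
  set c : A := w ^ (S.sup id + 1) with hcdef
  have hc : c ∉ P := fun h' => hw (hP.mem_of_pow_mem _ h')
  have hcN : ∀ n ∈ N, c • n ∈ P • N := by
    intro n hn
    induction hn using Submodule.span_induction with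
    | mem n hn =>
      obtain ⟨⟨i, hi⟩, rfl⟩ := hn
      obtain ⟨r, hr⟩ := Nat.exists_eq_add_of_le (Finset.le_sup (f := id) hi)
      rw [hcdef, hr, id, show i + r + 1 = r + (i + 1) by omega, pow_add, mul_smul]
      exact Submodule.smul_mem _ _ (key i)
    | zero => simp
    | add a b _ _ ha hb => rw [smul_add]; exact add_mem ha hb
    | smul a n _ hn => rw [smul_comm]; exact Submodule.smul_mem _ _ hn
  have : Module.Finite A N := Module.Finite.iff_fg.2 (Submodule.fg_span (Set.finite_range _))
  obtain ⟨p, hmon, -, hcoeff, haev⟩ :=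
    LinearMap.exists_monic_and_natDegree_eq_and_coeff_mem_pow_and_aeval_eq_zero A
      (algebraMap A (Module.End A N) c) P (by
        rintro _ ⟨n, rfl⟩
        have h3 : P • N = Submodule.map N.subtype (P • (⊤ : Submodule A N)) := by
          rw [Submodule.map_smul'', Submodule.map_subtype_top]
        have h4 := hcN n.1 n.2
        rw [h3] at h4
        obtain ⟨m, hm, hmn⟩ := h4
        have : m = algebraMap A (Module.End A N) c n := Subtype.ext hmn
        exact this ▸ hm)
  rw [Polynomial.aeval_algebraMap_apply, Polynomial.coe_aeval_eq_eval] at haev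
  refine ⟨p.eval c, fun hr => hc ?_, ?_⟩
  · have hrest : ∑ i ∈ Finset.range p.natDegree, p.coeff i * c ^ i ∈ P := Submodule.sum_mem _ fun i hi =>
      Ideal.mul_mem_right _ _ (Ideal.pow_le_self (Nat.sub_ne_zero_of_lt (Finset.mem_range.1 hi)) (hcoeff i))
    rw [Polynomial.eval_eq_sum_range, Finset.sum_range_succ, hmon.coeff_natDegree, one_mul] at hr
    exact hP.mem_of_pow_mem _ ((Ideal.add_mem_iff_right _ hrest).1 hr)
  · exact congrArg Subtype.val (LinearMap.congr_fun haev ⟨_, hmem k⟩)

include ℳ in
/-- Elements invisible on `Proj` are torsion. -/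
lemma exists_pow_irr_smul_eq_zero [IsNoetherianRing A] {z : M}
    (h : ∀ x : ProjectiveSpectrum 𝒜, ∃ c : A, c ∉ x.asHomogeneousIdeal ∧ c • z = 0) :
    ∃ K : ℕ, ∀ a ∈ irr 𝒜 ^ K, a • z = 0 := by
  classical
  have hcomp : ∀ k, ∃ K, ∀ a ∈ irr 𝒜 ^ K, a • (decompose ℳ z k : M) = 0 := by
    intro k
    obtain ⟨K, hK⟩ := exists_pow_irr_le 𝒜
      (J := LinearMap.ker (LinearMap.toSpanSingleton A M (decompose ℳ z k : M))) fun x => by
        obtain ⟨u, hu, huz⟩ := h x
        obtain ⟨c, hc, hcz⟩ := exists_smul_decompose_eq_zero 𝒜 ℳ hu huz k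
        obtain ⟨i, c', hi, hc', hcz'⟩ := exists_homog_smul_eq_zero 𝒜 ℳ hc (SetLike.coe_mem _) hcz
        exact ⟨i, c', hi, LinearMap.mem_ker.2 hcz', hc'⟩
    exact ⟨K, fun a ha => LinearMap.mem_ker.1 (hK ha)⟩
  choose K hK using hcomp
  refine ⟨(decompose ℳ z).support.sup K, fun a ha => ?_⟩
  conv_lhs => rw [← sum_support_decompose ℳ z]
  rw [Finset.smul_sum]
  exact Finset.sum_eq_zero fun k hk => hK k a (Ideal.pow_le_pow_right (Finset.le_sup hk) ha)

end Groth.Agent.GrTail
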