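import Groth.Agent.GrTail.Separate
import Groth.Agent.LocH.Transform
import Groth.Prelude.Def_GrMod3

/-! The ideal transform along the irrelevant ideal is the sum of the sections of the twists `M(n)~`. -/

set_option autoImplicit false

open DirectSum AlgebraicGeometry TopologicalSpace Opposite

noncomputable section

namespace Groth.Agent.GrTail

open Groth.Agent

universe u

variable {A σ : Type u} [CommRing A] [SetLike σ A] [AddSubgroupClass σ A] (𝒜 : ℕ → σ) [GradedRing 𝒜]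
variable {M τ : Type u} [AddCommGroup M] [Module A M] [SetLike τ M] [AddSubgroupClass τ M]
  (ℳ : ℕ → τ) [DirectSum.Decomposition ℳ] [SetLike.GradedSMul 𝒜 ℳ] [IsNoetherianRing A]

/-- Germs at all points of `Proj`. -/
abbrev Germs : Type u := ∀ x : ProjectiveSpectrum 𝒜, Loc 𝒜 (M := M) x

/-- `m ↦ (m / 1)`. -/
def germs : M →ₗ[A] Germs 𝒜 (M := M) :=
  LinearMap.pi fun x => LocalizedModule.mkLinearMap x.asHomogeneousIdeal.toIdeal.primeCompl M

omit [IsNoetherianRing A] in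
lemma germs_apply (m : M) (x : ProjectiveSpectrum 𝒜) : germs 𝒜 m x = LocalizedModule.mk m 1 := rfl

omit [IsNoetherianRing A] in
lemma germs_eq_zero_of_torsion {m : M} (h : m ∈ DRing.torsionSub (irr 𝒜) M) :
    germs 𝒜 m = 0 := by
  obtain ⟨K, hK⟩ := h
  funext x
  obtain ⟨i, b, -, hb, hbx⟩ := exists_pow_irr_not_mem 𝒜 x K
  rw [germs_apply, Pi.zero_apply, ← LocalizedModule.zero_mk 1, LocalizedModule.mk_eq]
  refine ⟨⟨b, hbx⟩, ?_⟩
  simp only [Submonoid.smul_def, OneMemClass.coe_one, one_smul, smul_zero]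
  exact hK b hb

include ℳ in
lemma torsion_of_germs_eq_zero {m : M} (h : germs 𝒜 m = 0) : m ∈ DRing.torsionSub (irr 𝒜) M :=
  exists_pow_irr_smul_eq_zero 𝒜 ℳ fun x => by
    have h1 : (LocalizedModule.mk m 1 : Loc 𝒜 x) = 0 := congrFun h x
    rw [← LocalizedModule.zero_mk 1, LocalizedModule.mk_eq] at h1
    obtain ⟨u, hu⟩ := h1
    simp only [one_smul, smul_zero, Submonoid.smul_def] at hu
    exact ⟨(u : A), u.2, hu⟩

variable (M) in
lemma exists_den (y : LocCoh.DT (irr 𝒜) M) (x : ProjectiveSpectrum 𝒜) :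
    ∃ (b : x.asHomogeneousIdeal.toIdeal.primeCompl) (m : M),
      (b : A) • y = LocCoh.toDT (irr 𝒜) M m := by
  obtain ⟨n, hn⟩ := LocTrans.exists_smul_eq_toDT y
  obtain ⟨i, b, -, hb, hbx⟩ := exists_pow_irr_not_mem 𝒜 x n
  obtain ⟨m, hm⟩ := hn b hb
  exact ⟨⟨b, hbx⟩, m, hm⟩

lemma mk_eq_of_den {y : LocCoh.DT (irr 𝒜) M} {x : ProjectiveSpectrum 𝒜}
    {b b' : x.asHomogeneousIdeal.toIdeal.primeCompl} {m m' : M}
    (h : (b : A) • y = LocCoh.toDT (irr 𝒜) M m) (h' : (b' : A) • y = LocCoh.toDT (irr 𝒜) M m') :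
    (LocalizedModule.mk m b : Loc 𝒜 (M := M) x) = LocalizedModule.mk m' b' := by
  have h0 : LocCoh.toDT (irr 𝒜) M ((b' : A) • m - (b : A) • m') = 0 := by
    rw [map_sub, map_smul, map_smul, ← h, ← h', smul_comm, sub_self]
  have hz := congrFun (germs_eq_zero_of_torsion 𝒜 (LocTrans.ker_toDT.le (LinearMap.mem_ker.2 h0))) x
  rw [germs_apply, Pi.zero_apply, ← LocalizedModule.zero_mk 1, LocalizedModule.mk_eq] at hz
  obtain ⟨u, hu⟩ := hz
  simp only [one_smul, smul_zero, Submonoid.smul_def, smul_sub, sub_eq_zero] at hu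
  rw [LocalizedModule.mk_eq]
  exact ⟨u, by simpa [Submonoid.smul_def] using hu⟩

/-- An element of the transform gives germs at all points of `Proj`. -/
def psi : LocCoh.DT (irr 𝒜) M →+ Germs 𝒜 (M := M) where
  toFun y x := LocalizedModule.mk (exists_den 𝒜 M y x).choose_spec.choose (exists_den 𝒜 M y x).choose
  map_zero' := by
    funext x
    rw [Pi.zero_apply, ← LocalizedModule.zero_mk (1 : x.asHomogeneousIdeal.toIdeal.primeCompl)]
    exact mk_eq_of_den 𝒜 (exists_den 𝒜 M 0 x).choose_spec.choose_spec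
      (by rw [smul_zero, map_zero])
  map_add' y y' := by
    funext x
    rw [Pi.add_apply, LocalizedModule.mk_add_mk]
    refine mk_eq_of_den 𝒜 (exists_den 𝒜 M (y + y') x).choose_spec.choose_spec ?_
    simp only [map_add, map_smul, Submonoid.smul_def, Submonoid.coe_mul]
    rw [← (exists_den 𝒜 M y x).choose_spec.choose_spec, ← (exists_den 𝒜 M y' x).choose_spec.choose_spec]
    module

lemma psi_eq_mk {y : LocCoh.DT (irr 𝒜) M} {x : ProjectiveSpectrum 𝒜}
    {b : x.asHomogeneousIdeal.toIdeal.primeCompl} {m : M} (h : (b : A) • y = LocCoh.toDT (irr 𝒜) M m) :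
    psi 𝒜 y x = LocalizedModule.mk m b :=
  mk_eq_of_den 𝒜 (exists_den 𝒜 M y x).choose_spec.choose_spec h

lemma psi_toDT (m : M) : psi 𝒜 (LocCoh.toDT (irr 𝒜) M m) = germs 𝒜 m := by
  funext x
  exact psi_eq_mk 𝒜 (b := 1) (one_smul _ _)

include ℳ in
lemma psi_injective : Function.Injective (psi 𝒜 (M := M)) := by
  refine (injective_iff_map_eq_zero _).2 fun y hy => ?_
  obtain ⟨n, hn⟩ := LocTrans.exists_smul_eq_toDT y
  refine LocTrans.eq_of_forall_smul_eq n fun a ha => ?_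
  obtain ⟨m, hm⟩ := hn a ha
  rw [hm, smul_zero]
  refine LinearMap.mem_ker.1 (LocTrans.ker_toDT.ge (torsion_of_germs_eq_zero 𝒜 ℳ ?_))
  funext x
  rw [germs_apply, Pi.zero_apply]
  obtain ⟨b, m', hb⟩ := exists_den 𝒜 M y x
  have h0 : (LocalizedModule.mk m' b : Loc 𝒜 (M := M) x) = 0 := (psi_eq_mk 𝒜 hb).symm.trans (congrFun hy x)
  rw [← LocalizedModule.zero_mk 1, LocalizedModule.mk_eq] at h0
  obtain ⟨u, hu⟩ := h0
  simp only [one_smul, smul_zero, Submonoid.smul_def] at hu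
  have h1 : LocCoh.toDT (irr 𝒜) M ((b : A) • m - a • m') = 0 := by
    rw [map_sub, map_smul, map_smul, ← hm, ← hb, smul_comm, sub_self]
  have hz := congrFun (germs_eq_zero_of_torsion 𝒜 (LocTrans.ker_toDT.le (LinearMap.mem_ker.2 h1))) x
  rw [germs_apply, Pi.zero_apply, ← LocalizedModule.zero_mk 1, LocalizedModule.mk_eq] at hz
  obtain ⟨v, hv⟩ := hz
  simp only [one_smul, smul_zero, Submonoid.smul_def, smul_sub, sub_eq_zero] at hv
  rw [← LocalizedModule.zero_mk 1, LocalizedModule.mk_eq]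
  refine ⟨u * v * b, ?_⟩
  simp only [Submonoid.smul_def, Submonoid.coe_mul, OneMemClass.coe_one, one_smul, smul_zero]
  rw [mul_smul, mul_smul, hv, smul_comm (v : A) a, smul_comm (u : A) a, smul_comm (u : A) (v : A), hu,
    smul_zero, smul_zero]

/-- Sections of `M(n)~` over `Proj`. -/
abbrev Sec (n : ℤ) : Type u := ((GrMod.tilde 𝒜 ℳ n).val.obj (op ⊤) : Type u)

/-- Germs of a section of `M(n)~`. -/
def secGerms (n : ℤ) : Sec 𝒜 ℳ n →+ Germs 𝒜 (M := M) where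
  toFun t x := ((t : GrMod.sect 𝒜 ℳ n (op ⊤)).1 ⟨x, trivial⟩ : GrMod.tildeAt 𝒜 ℳ n x)
  map_zero' := rfl
  map_add' _ _ := rfl

omit [DirectSum.Decomposition ℳ] [IsNoetherianRing A] in
lemma secGerms_nhd (n : ℤ) (t : Sec 𝒜 ℳ n) (x : ProjectiveSpectrum 𝒜) :
    ∃ U : Opens (ProjectiveSpectrum.top 𝒜), x ∈ U ∧ ∃ (i j : ℕ) (a : M) (s : A), a ∈ ℳ i ∧ s ∈ 𝒜 j ∧
      ((i : ℤ) = j + n ∨ a = 0) ∧
      ∀ y ∈ U, ∃ hs : s ∉ y.asHomogeneousIdeal, secGerms 𝒜 ℳ n t y = LocalizedModule.mk a ⟨s, hs⟩ := by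
  obtain ⟨V, mV, iV, i, j, m, s, nin, c, w⟩ := (t : GrMod.sect 𝒜 ℳ n (op ⊤)).2 ⟨x, trivial⟩
  exact ⟨V, mV, i, j, m, s, m.2, s.2, c, fun y hy => ⟨nin ⟨y, hy⟩, w ⟨y, hy⟩⟩⟩

omit [DirectSum.Decomposition ℳ] [IsNoetherianRing A] in
lemma secGerms_alpha (i : ℕ) (m : ℳ i) :
    secGerms 𝒜 ℳ (i : ℤ) (GrMod.alpha 𝒜 ℳ i m) = germs 𝒜 (m : M) := rfl

/-- The ideal of multipliers carrying a family of germs into `M`. -/
def multipliers (v : Germs 𝒜 (M := M)) : Ideal A :=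
  (LinearMap.range (germs 𝒜 (M := M))).comap (LinearMap.toSpanSingleton A _ v)

lemma exists_pow_le_multipliers (n : ℤ) (t : Sec 𝒜 ℳ n) :
    ∃ K, irr 𝒜 ^ K ≤ multipliers 𝒜 (secGerms 𝒜 ℳ n t) := by
  refine exists_pow_irr_le 𝒜 fun x => ?_
  obtain ⟨d, g, hd, hg, hgx⟩ := exists_pos_homog 𝒜 x
  obtain ⟨L, hL⟩ : ∃ L : ℕ, 0 ≤ (L * d : ℤ) + n := by
    refine ⟨n.natAbs, ?_⟩
    have h1 : (n.natAbs : ℤ) ≤ n.natAbs * d := le_mul_of_one_le_right (by positivity) (by omega)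
    omega
  obtain ⟨N, hN⟩ := Int.eq_ofNat_of_zero_le hL
  have hv : IsSec 𝒜 ℳ N fun y => g ^ L • secGerms 𝒜 ℳ n t y := fun y => by
    obtain ⟨U, hyU, i, j, a, s, ha, hs, hc, hU⟩ := secGerms_nhd 𝒜 ℳ n t y
    refine ⟨U, hyU, j, g ^ L • a, s, ?_, hs, fun z hz => ?_⟩
    · rcases hc with hc | hc
      · have h1 := smul_mem_graded 𝒜 ℳ (SetLike.pow_mem_graded L hg) ha
        have e : L • d + i = j + N := by
          rw [smul_eq_mul]
          exact_mod_cast (by push_cast; omega : ((L * d + i : ℕ) : ℤ) = ((j + N : ℕ) : ℤ))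
        exact e ▸ h1
      · simp [hc]
    · obtain ⟨hsz, e⟩ := hU z hz
      exact ⟨hsz, by dsimp only; rw [e, LocalizedModule.smul'_mk]⟩
  obtain ⟨K, m, -, hm⟩ := exists_pow_smul_global hv hd hg
  refine ⟨(K + L) • d, g ^ (K + L), SetLike.pow_mem_graded _ hg, ⟨m, ?_⟩,
    fun h => hgx (x.isPrime.mem_of_pow_mem _ h)⟩
  funext y
  rw [LinearMap.toSpanSingleton_apply, germs_apply, Pi.smul_apply, pow_add, mul_smul]
  exact (hm y).symm

include ℳ in
lemma exists_psi_eq {v : Germs 𝒜 (M := M)} {K : ℕ} (hv : irr 𝒜 ^ K ≤ multipliers 𝒜 v) :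
    ∃ y, psi 𝒜 y = v := by
  obtain ⟨s, a, ha⟩ := Submodule.fg_iff_exists_fin_generating_family.1
    (IsNoetherian.noetherian (irr 𝒜 ^ K))
  have hl : ∀ i, ∃ l : M, germs 𝒜 l = a i • v := fun i => hv (ha ▸ Submodule.subset_span ⟨i, rfl⟩)
  choose l hl using hl
  have hlin : ∀ c : Fin s → A, germs 𝒜 (∑ i, c i • l i) = (∑ i, c i • a i) • v := fun c => by
    simp only [map_sum, map_smul, hl, Finset.sum_smul, smul_smul, smul_eq_mul]
  obtain ⟨m, -, g, hg⟩ := LocTrans.exists_hom_of_gens a ha l fun c hc =>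
    torsion_of_germs_eq_zero 𝒜 ℳ (by rw [hlin, hc, zero_smul])
  refine ⟨LocTrans.dι _ _ m g, funext fun x => ?_⟩
  obtain ⟨i, b, -, hb, hbx⟩ := exists_pow_irr_not_mem 𝒜 x m
  rw [psi_eq_mk 𝒜 (b := ⟨b, hbx⟩) (LocTrans.smul_dι_eq_toDT g ⟨b, hb⟩)]
  obtain ⟨c, hbc, hgc⟩ := hg ⟨b, hb⟩
  have h1 : (LocalizedModule.mk (g ⟨b, hb⟩) 1 : Loc 𝒜 (M := M) x) = b • v x := by
    rw [hgc, show b = ∑ i, c i • a i from hbc, ← Pi.smul_apply, ← hlin, germs_apply]
  induction hvx : v x using LocalizedModule.induction_on with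
  | h q r =>
    rw [hvx, LocalizedModule.smul'_mk, LocalizedModule.mk_eq] at h1
    obtain ⟨u, hu⟩ := h1
    rw [LocalizedModule.mk_eq]
    refine ⟨u, ?_⟩
    simpa [Submonoid.smul_def] using hu

/-- The sum of sections of all twists, read in germs. -/
def totalGerms : (DirectSum ℤ (fun n : ℤ => Sec 𝒜 ℳ n)) →+ Germs 𝒜 (M := M) :=
  DirectSum.toAddMonoid (secGerms 𝒜 ℳ)

lemma totalGerms_injective : Function.Injective (totalGerms 𝒜 ℳ) := by
  classical
  refine (injective_iff_map_eq_zero _).2 fun t ht => ?_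
  ext n₀ : 1
  refine Subtype.ext (funext fun x => Subtype.ext ?_)
  change secGerms 𝒜 ℳ n₀ (t n₀) x.1 = 0
  rw [show x = ⟨x.1, trivial⟩ from rfl]
  by_cases hn₀ : n₀ ∈ t.support
  swap
  · rw [DFinsupp.notMem_support_iff] at hn₀
    rw [hn₀, map_zero]
    rfl
  have hsum : ∑ n ∈ t.support, secGerms 𝒜 ℳ n (t n) x.1 = 0 := by
    have h1 := congrFun ht x.1
    rw [← DirectSum.sum_support_of t, map_sum, Finset.sum_apply] at h1
    refine Eq.trans (Finset.sum_congr rfl fun n _ => ?_) h1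
    exact (congrFun (DirectSum.toAddMonoid_of (secGerms 𝒜 ℳ) n (t n)) x.1).symm
  -- common denominator
  have hrep : ∀ n : ℤ, ∃ (i j : ℕ) (a : M) (s : A), a ∈ ℳ i ∧ s ∈ 𝒜 j ∧ ((i : ℤ) = j + n ∨ a = 0) ∧
      ∃ hs : s ∉ x.1.asHomogeneousIdeal, secGerms 𝒜 ℳ n (t n) x.1 = LocalizedModule.mk a ⟨s, hs⟩ := fun n => by
    obtain ⟨U, hU, i, j, a, s, ha, hs, hc, h⟩ := secGerms_nhd 𝒜 ℳ n (t n) x.1
    exact ⟨i, j, a, s, ha, hs, hc, h x.1 hU⟩
  choose i j a s ha hs hc hsx hv using hrep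
  set T := t.support
  let D : A := ∏ n ∈ T, s n
  let e : ℕ := ∑ n ∈ T, j n
  have hD : D ∉ x.1.asHomogeneousIdeal := fun h => by
    obtain ⟨n, -, hn⟩ := (Ideal.IsPrime.prod_mem_iff (hp := x.1.isPrime)).1 h
    exact hsx n hn
  let b : ℤ → M := fun n => (∏ n' ∈ T.erase n, s n') • a n
  have hb : ∀ n ∈ T, (LocalizedModule.mk (b n) 1 : Loc 𝒜 (M := M) x.1) =
      D • secGerms 𝒜 ℳ n (t n) x.1 := fun n hn => by
    rw [hv, LocalizedModule.smul'_mk, LocalizedModule.mk_eq]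
    refine ⟨1, ?_⟩
    simp only [Submonoid.smul_def, OneMemClass.coe_one, one_smul, b, smul_smul]
    rw [show D = s n * ∏ n' ∈ T.erase n, s n' from (Finset.mul_prod_erase T s hn).symm]
  have hbmem : ∀ n ∈ T, b n = 0 ∨ ∃ k : ℕ, (k : ℤ) = e + n ∧ b n ∈ ℳ k := fun n hn => by
    rcases hc n with hin | hin
    · refine Or.inr ⟨(∑ n' ∈ T.erase n, j n') + i n, ?_, smul_mem_graded 𝒜 ℳ
        (SetLike.prod_mem_graded (A := 𝒜) j s (fun k _ => hs k)) (ha n)⟩
      have : e = j n + ∑ n' ∈ T.erase n, j n' := (Finset.add_sum_erase T j hn).symm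
      rw [this]
      push_cast
      omega
    · exact Or.inl (by simp [b, hin])
  have hz : (LocalizedModule.mk (∑ n ∈ T, b n) 1 : Loc 𝒜 (M := M) x.1) = 0 := by
    rw [show (LocalizedModule.mk (∑ n ∈ T, b n) 1 : Loc 𝒜 (M := M) x.1) =
      LocalizedModule.mkLinearMap x.1.asHomogeneousIdeal.toIdeal.primeCompl M (∑ n ∈ T, b n) from rfl,
      map_sum]
    refine (Finset.sum_congr rfl fun n hn => hb n hn).trans ?_
    rw [← Finset.smul_sum, hsum, smul_zero]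
  rw [← LocalizedModule.zero_mk 1, LocalizedModule.mk_eq] at hz
  obtain ⟨u, hu⟩ := hz
  simp only [one_smul, smul_zero, Submonoid.smul_def] at hu
  have hkill : ∃ c : A, c ∉ x.1.asHomogeneousIdeal ∧ c • b n₀ = 0 := by
    rcases hbmem n₀ hn₀ with h0 | ⟨k, hk, hbk⟩
    · exact ⟨1, one_not_mem 𝒜 _, by simp [h0]⟩
    obtain ⟨c, hc', hcb⟩ := exists_smul_decompose_eq_zero 𝒜 ℳ u.2 hu k
    refine ⟨c, hc', ?_⟩
    suffices e' : (decompose ℳ (∑ n ∈ T, b n) k : M) = b n₀ from e' ▸ hcb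
    rw [decompose_sum, DFinsupp.finsetSum_apply, AddSubmonoidClass.coe_finsetSum,
      Finset.sum_eq_single n₀ _ (fun h => absurd hn₀ h), decompose_of_mem_same ℳ hbk]
    intro n hn hne
    rcases hbmem n hn with h0 | ⟨k', hk', hbk'⟩
    · simp [h0]
    · exact decompose_of_mem_ne ℳ hbk' fun h => hne (by omega)
  obtain ⟨c, hc', hcb⟩ := hkill
  rw [hv, ← LocalizedModule.zero_mk 1, LocalizedModule.mk_eq]
  refine ⟨⟨c * ∏ n' ∈ T.erase n₀, s n', not_mem_mul 𝒜 hc' fun h => hD ?_⟩, ?_⟩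
  · rw [show D = s n₀ * ∏ n' ∈ T.erase n₀, s n' from (Finset.mul_prod_erase T s hn₀).symm]
    exact Ideal.mul_mem_left _ _ h
  · simp only [Submonoid.smul_def, OneMemClass.coe_one, one_smul, smul_zero]
    rw [mul_smul]
    exact hcb

lemma psi_mem_range (y : LocCoh.DT (irr 𝒜) M) : psi 𝒜 y ∈ (totalGerms 𝒜 ℳ).range := by
  classical
  obtain ⟨K, hK⟩ := LocTrans.exists_smul_eq_toDT y
  set S : Set A := {a | a ∈ irr 𝒜 ^ K ∧ ∃ e, a ∈ 𝒜 e}
  have hspan : Submodule.span A S = irr 𝒜 ^ K := by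
    refine le_antisymm (Submodule.span_le.2 fun a ha => ha.1) fun a ha => ?_
    have hhom : ∀ L, (irr 𝒜 ^ L).IsHomogeneous 𝒜 := by
      intro L
      induction L with
      | zero => rw [pow_zero, Ideal.one_eq_top]; exact Ideal.IsHomogeneous.top 𝒜
      | succ L ih => rw [pow_succ]; exact ih.mul (HomogeneousIdeal.irrelevant 𝒜).isHomogeneous
    rw [← sum_support_decompose 𝒜 a]
    exact Submodule.sum_mem _ fun i _ => Submodule.subset_span ⟨hhom K i ha, i, SetLike.coe_mem _⟩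
  obtain ⟨s, hs, hss⟩ := (Submodule.fg_span_iff_fg_span_finset_subset (R := A) S).1 (IsNoetherian.noetherian _)
  have hw : ∀ w : s, ∃ (e : ℕ) (m : M), (w : A) ∈ 𝒜 e ∧ (w : A) • y = LocCoh.toDT (irr 𝒜) M m := fun w => by
    obtain ⟨hwK, e, he⟩ := hs w.2
    obtain ⟨m, hm⟩ := hK _ hwK
    exact ⟨e, m, he, hm⟩
  choose e m he hm using hw
  have hcover : ∀ x : ProjectiveSpectrum 𝒜, ∃ w : s, (w : A) ∉ x.asHomogeneousIdeal := fun x => by
    by_contra h
    push Not at h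
    obtain ⟨i, b, -, hb, hbx⟩ := exists_pow_irr_not_mem 𝒜 x K
    rw [← hspan, hss] at hb
    exact hbx ((Submodule.span_le (p := x.asHomogeneousIdeal.toIdeal)).2 (fun a ha => h ⟨a, ha⟩) hb)
  choose pt hpt using hcover
  -- degree `n` part of the `w`-th numerator
  let num : ℤ → s → M := fun n w =>
    if h : (0 : ℤ) ≤ (e w : ℤ) + n then (decompose ℳ (m w) ((e w : ℤ) + n).toNat : M) else 0
  let v : ∀ (n : ℤ) (x : ProjectiveSpectrum 𝒜), Loc 𝒜 (M := M) x := fun n x =>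
    LocalizedModule.mk (num n (pt x)) ⟨(pt x : A), hpt x⟩
  have hnum : ∀ (n : ℤ) (w : s), ∃ i : ℕ, num n w ∈ ℳ i ∧ ((i : ℤ) = e w + n ∨ num n w = 0) := fun n w => by
    by_cases h : (0 : ℤ) ≤ (e w : ℤ) + n
    · refine ⟨((e w : ℤ) + n).toNat, ?_, Or.inl (Int.toNat_of_nonneg h)⟩
      simp only [num, dif_pos h]
      exact SetLike.coe_mem _
    · exact ⟨0, by simp only [num, dif_neg h]; exact zero_mem _, Or.inr (by simp only [num, dif_neg h])⟩
  have hveq : ∀ (n : ℤ) (x : ProjectiveSpectrum 𝒜) (w : s) (hw : (w : A) ∉ x.asHomogeneousIdeal),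
      v n x = LocalizedModule.mk (num n w) ⟨(w : A), hw⟩ := by
    intro n x w hw
    set w' := pt x
    have h0 : (w : A) • m w' - (w' : A) • m w ∈ DRing.torsionSub (irr 𝒜) M := LocTrans.ker_toDT.le (by
      rw [LinearMap.mem_ker, map_sub, map_smul, map_smul, ← hm, ← hm, smul_comm, sub_self])
    have h1 := congrFun (germs_eq_zero_of_torsion 𝒜 h0) x
    rw [germs_apply, Pi.zero_apply, ← LocalizedModule.zero_mk 1, LocalizedModule.mk_eq] at h1
    obtain ⟨u, hu⟩ := h1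
    simp only [one_smul, smul_zero, Submonoid.smul_def] at hu
    by_cases h : (0 : ℤ) ≤ (e w : ℤ) + e w' + n
    · set k := ((e w : ℤ) + e w' + n).toNat
      obtain ⟨c, hc, hcz⟩ := exists_smul_decompose_eq_zero 𝒜 ℳ u.2 hu k
      have hcomp : ∀ (p q : s) (hp : (e p : ℤ) + e q + n = e w + e w' + n),
          (decompose ℳ ((p : A) • m q) k : M) = (p : A) • num n q := by
        intro p q hp
        by_cases hq : (0 : ℤ) ≤ (e q : ℤ) + n
        · simp only [num, dif_pos hq]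
          rw [← decompose_smul_left 𝒜 ℳ (he p), show e p + ((e q : ℤ) + n).toNat = k by omega]
        · simp only [num, dif_neg hq, smul_zero]
          conv_lhs => rw [← sum_support_decompose ℳ (m q), Finset.smul_sum]
          rw [decompose_sum, DFinsupp.finsetSum_apply, AddSubmonoidClass.coe_finsetSum]
          exact Finset.sum_eq_zero fun l _ => decompose_of_mem_ne ℳ
            (smul_mem_graded 𝒜 ℳ (he p) (SetLike.coe_mem _)) (by omega)
      rw [decompose_sub, DirectSum.sub_apply, AddSubgroupClass.coe_sub, hcomp w w' rfl,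
        hcomp w' w (by ring), smul_sub, sub_eq_zero] at hcz
      rw [LocalizedModule.mk_eq]
      exact ⟨⟨c, hc⟩, by simpa [Submonoid.smul_def] using hcz⟩
    · have hz : ∀ q : s, (e q : ℤ) + n < 0 → num n q = 0 := fun q hq => dif_neg (by omega)
      simp only [v]
      rw [hz w (by omega), hz w' (by omega), LocalizedModule.zero_mk, LocalizedModule.zero_mk]
  have hsect : ∀ n : ℤ, ∃ t : Sec 𝒜 ℳ n, secGerms 𝒜 ℳ n t = v n := by
    intro n
    refine ⟨⟨fun x => ⟨v n x.1, ?_⟩, fun x => ?_⟩, rfl⟩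
    · obtain ⟨i, hi, hc⟩ := hnum n (pt x.1)
      rcases hc with hc | hc
      · exact Submodule.subset_span ⟨i, e (pt x.1), ⟨_, hi⟩, ⟨_, he _⟩, hpt x.1, hc, rfl⟩
      · simp only [v, hc, LocalizedModule.zero_mk]
        exact zero_mem _
    · obtain ⟨i, hi, hc⟩ := hnum n (pt x.1)
      exact ⟨ProjectiveSpectrum.basicOpen 𝒜 (pt x.1 : A), (ProjectiveSpectrum.mem_basicOpen 𝒜 _ _).2 (hpt x.1),
        CategoryTheory.homOfLE le_top, i, e (pt x.1), ⟨_, hi⟩, ⟨_, he _⟩,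
        fun y => (ProjectiveSpectrum.mem_basicOpen 𝒜 _ _).1 y.2, hc, fun y => hveq n y.1 (pt x.1) _⟩
  choose t ht using hsect
  let T : Finset ℤ := Finset.univ.biUnion fun w : s => (decompose ℳ (m w)).support.image fun k : ℕ => (k : ℤ) - e w
  refine ⟨∑ n ∈ T, DirectSum.of _ n (t n), ?_⟩
  rw [map_sum]
  funext x
  rw [Finset.sum_apply, psi_eq_mk 𝒜 (b := ⟨(pt x : A), hpt x⟩) (hm (pt x))]
  simp only [totalGerms, DirectSum.toAddMonoid_of, ht, v]
  set w := pt x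
  have hsum : ∑ n ∈ T, num n w = m w := by
    conv_rhs => rw [← sum_support_decompose ℳ (m w)]
    symm
    refine Finset.sum_bij_ne_zero (fun (k : ℕ) _ _ => (k : ℤ) - e w) ?_ ?_ ?_ ?_
    · exact fun k hk _ => Finset.mem_biUnion.2 ⟨w, Finset.mem_univ _, Finset.mem_image_of_mem _ hk⟩
    · intro k _ _ k' _ _ h
      omega
    · intro n _ hn
      have h : (0 : ℤ) ≤ (e w : ℤ) + n := by
        by_contra h
        exact hn (dif_neg h)
      simp only [num, dif_pos h] at hn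
      refine ⟨((e w : ℤ) + n).toNat, DFinsupp.mem_support_iff.2 fun h' => hn (by rw [h']; rfl), hn, by omega⟩
    · intro k _ _
      have h : (0 : ℤ) ≤ (e w : ℤ) + ((k : ℤ) - e w) := by omega
      simp only [num, dif_pos h]
      rw [show ((e w : ℤ) + ((k : ℤ) - e w)).toNat = k by omega]
  conv_rhs => rw [← hsum]
  induction T using Finset.cons_induction with
  | empty => simp
  | cons n T hn ih =>
    rw [Finset.sum_cons, Finset.sum_cons, ih, LocalizedModule.mk_add_mk, LocalizedModule.mk_eq]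
    refine ⟨1, ?_⟩
    simp only [Submonoid.smul_def, Submonoid.coe_mul, OneMemClass.coe_one, one_smul]
    module

lemma range_psi : (psi 𝒜 (M := M)).range = (totalGerms 𝒜 ℳ).range := by
  refine le_antisymm ?_ ?_
  · rintro _ ⟨y, rfl⟩
    exact psi_mem_range 𝒜 ℳ y
  · rintro _ ⟨t, rfl⟩
    induction t using DirectSum.induction_on with
    | zero => rw [map_zero]; exact zero_mem _
    | of n t =>
      rw [totalGerms, DirectSum.toAddMonoid_of]
      obtain ⟨K, hK⟩ := exists_pow_le_multipliers 𝒜 ℳ n t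
      exact exists_psi_eq 𝒜 ℳ hK
    | add a b ha hb => rw [map_add]; exact add_mem ha hb

/-- The transform of `M` is the direct sum of the sections of all twists, compatibly with the two maps out of `M`. -/
theorem exists_transformEquiv :
    ∃ e : (DirectSum ℤ (fun n : ℤ => Sec 𝒜 ℳ n)) ≃+ LocCoh.DT (irr 𝒜) M,
      ∀ (i : ℕ) (m : ℳ i), e (DirectSum.of (fun n : ℤ => Sec 𝒜 ℳ n) (i : ℤ) (GrMod.alpha 𝒜 ℳ i m)) =
        LocCoh.toDT (irr 𝒜) M (m : M) := by
  let e₁ := AddMonoidHom.ofInjective (totalGerms_injective 𝒜 ℳ)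
  let e₂ := AddMonoidHom.ofInjective (psi_injective 𝒜 ℳ)
  refine ⟨e₁.trans ((AddEquiv.addSubgroupCongr (range_psi 𝒜 ℳ).symm).trans e₂.symm), fun i m => ?_⟩
  apply psi_injective 𝒜 ℳ
  rw [AddEquiv.trans_apply, AddEquiv.trans_apply, psi_toDT]
  rw [show ∀ z, psi 𝒜 (e₂.symm z) = (z : Germs 𝒜 (M := M)) from
    fun z => congrArg Subtype.val (e₂.apply_symm_apply z)]
  exact DirectSum.toAddMonoid_of (secGerms 𝒜 ℳ) _ _

theorem nonempty_coker_equiv :
    Nonempty ((DirectSum ℤ (fun n : ℤ => Sec 𝒜 ℳ n)) ⧸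
        AddSubgroup.closure (⋃ i : ℕ, Set.range fun m : ℳ i =>
          DirectSum.of (fun n : ℤ => Sec 𝒜 ℳ n) (i : ℤ) (GrMod.alpha 𝒜 ℳ i m)) ≃+
      LocCoh.H (irr 𝒜) 1 M) := by
  classical
  obtain ⟨e, he⟩ := exists_transformEquiv 𝒜 ℳ
  obtain ⟨e₁⟩ := LocH.nonempty_coker_toDT_equiv (irr 𝒜) M
  refine ⟨(QuotientAddGroup.congr _ (LinearMap.range (LocCoh.toDT (irr 𝒜) M)).toAddSubgroup e ?_).trans
    e₁.toAddEquiv⟩
  rw [AddMonoidHom.map_closure]
  refine le_antisymm ((AddSubgroup.closure_le _).2 ?_) ?_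
  · rintro _ ⟨_, hz, rfl⟩
    obtain ⟨i, m, rfl⟩ := Set.mem_iUnion.1 hz
    exact ⟨m, (he i m).symm⟩
  · rintro _ ⟨m, rfl⟩
    rw [← sum_support_decompose ℳ m, map_sum]
    exact sum_mem fun i _ => AddSubgroup.subset_closure
      ⟨_, Set.mem_iUnion.2 ⟨i, ⟨decompose ℳ m i, rfl⟩⟩, he i _⟩

end Groth.Agent.GrTail
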